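import Mathlib
import Cfsg.Agent.Lib.Helper63.MC.Defs
import Cfsg.Agent.Lib.Helper73.MaxClass

/-!
# S3806 (MC) package [QUOT]: quotients of a `p`-group of maximal class by lower central terms
-/

set_option autoImplicit false

namespace Cfsg.Agent.Lib.Helper67.MC

open Cfsg.Agent.Lib.Helper63.MC

universe u

theorem pkgQuot_of (h : Cfsg.Agent.Lib.Helper63.MC.PkgStruct.{u}) :
    Cfsg.Agent.Lib.Helper63.MC.PkgQuot.{u} := by
  intro S _ _ p _ n m hm hmn hS hc
  have hp : p.Prime := Fact.out
  have hP : IsPGroup p S := IsPGroup.of_card hS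
  have hnil : Group.IsNilpotent S := hP.isNilpotent
  obtain ⟨hL, -⟩ := h S p n (by omega) hS hc
  have hNcard : Nat.card (L S (m - 1)) = p ^ (n - m) := by
    have h1 := hL (m - 1) (by omega) (by omega)
    rw [h1]
    congr 1
    omega
  have hQcard : Nat.card (S ⧸ L S (m - 1)) = p ^ m := by
    have h1 := Subgroup.card_eq_card_quotient_mul_card_subgroup (L S (m - 1))
    rw [hS, hNcard] at h1
    have h2 : p ^ n = p ^ m * p ^ (n - m) := by
      rw [← pow_add]
      congr 1
      omega
    rw [h2] at h1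
    exact (Nat.eq_of_mul_eq_mul_right (pos_of_ne_zero (pow_ne_zero _ hp.ne_zero)) h1).symm
  refine ⟨hQcard, ?_⟩
  have hmap : ∀ i, L (S ⧸ L S (m - 1)) i = (L S i).map (QuotientGroup.mk' (L S (m - 1))) := by
    intro i
    rw [Subgroup.map_lowerCentralSeries,
      Subgroup.map_top_of_surjective _ (QuotientGroup.mk'_surjective (L S (m - 1)))]
  apply le_antisymm
  · rw [← Subgroup.lowerCentralSeries_eq_bot_iff_nilpotencyClass_le]
    have h1 := hmap (m - 1)
    have h2 : (L S (m - 1)).map (QuotientGroup.mk' (L S (m - 1))) = ⊥ := by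
      rw [Subgroup.map_eq_bot_iff, QuotientGroup.ker_mk']
    rw [h2] at h1
    exact h1
  · by_contra hlt
    have h1 : Group.nilpotencyClass (S ⧸ L S (m - 1)) ≤ m - 2 := by omega
    have h2 : L (S ⧸ L S (m - 1)) (m - 2) = ⊥ :=
      Subgroup.lowerCentralSeries_eq_bot_iff_nilpotencyClass_le.mpr h1
    rw [hmap (m - 2), Subgroup.map_eq_bot_iff, QuotientGroup.ker_mk'] at h2
    have h4 := Cfsg.Agent.Lib.Helper73.lowerCentralSeries_succ_lt (X := S) (i := m - 2)
      (by rw [hc]; omega)
    have h5 : m - 2 + 1 = m - 1 := by omega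
    rw [h5] at h4
    exact absurd h2 (not_le_of_gt h4)

end Cfsg.Agent.Lib.Helper67.MC
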