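import Mathlib
import Cfsg.Agent.Lib.Helper63.MC.Defs

/-!
# S3806 (MC) package [SEC]
-/

set_option autoImplicit false

namespace Cfsg.Agent.Lib.Helper67.MC

open Cfsg.Agent.Lib.Helper63.MC

universe u

theorem pkgSec : Cfsg.Agent.Lib.Helper63.MC.PkgSec.{u} := by
  intro S _ _ p k N _ A hcomm hexp hcard hsec
  have hmap : (N.subgroupOf (⊤ : Subgroup S)).map
      ((Subgroup.topEquiv : ↥(⊤ : Subgroup S) ≃* S) : ↥(⊤ : Subgroup S) →* S) = N := by
    ext x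
    constructor
    · rintro ⟨y, hy, rfl⟩
      exact hy
    · intro hx
      exact ⟨⟨x, Subgroup.mem_top x⟩, hx, rfl⟩
  let φ : (↥(⊤ : Subgroup S) ⧸ N.subgroupOf (⊤ : Subgroup S)) ≃* S ⧸ N :=
    QuotientGroup.congr (N.subgroupOf (⊤ : Subgroup S)) N Subgroup.topEquiv hmap
  let A' : Subgroup (↥(⊤ : Subgroup S) ⧸ N.subgroupOf (⊤ : Subgroup S)) :=
    A.map φ.symm.toMonoidHom
  have hA'comm : IsMulCommutative ↥A' := by
    refine ⟨⟨?_⟩⟩
    rintro ⟨x, hx⟩ ⟨y, hy⟩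
    obtain ⟨a, ha, rfl⟩ := hx
    obtain ⟨b, hb, rfl⟩ := hy
    apply Subtype.ext
    show φ.symm.toMonoidHom a * φ.symm.toMonoidHom b = φ.symm.toMonoidHom b * φ.symm.toMonoidHom a
    rw [← map_mul, ← map_mul, hcomm a ha b hb]
  have hA'exp : ∀ a ∈ A', a ^ p = 1 := by
    rintro x ⟨a, ha, rfl⟩
    rw [← map_pow, hexp a ha, map_one]
  have hle := hsec (⊤ : Subgroup S) (N.subgroupOf (⊤ : Subgroup S)) A' hA'comm hA'exp
  have hcardA' : Nat.card A' = Nat.card A :=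
    Subgroup.card_map_of_injective φ.symm.injective
  rw [hcardA'] at hle
  exact absurd hle (not_le_of_gt hcard)

end Cfsg.Agent.Lib.Helper67.MC
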